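import Groth.Agent.Lib.AmpleFib.GenProd
import Groth.Agent.Lib.VeryAmple11.Bundle

/-!
# Families of sections seeing a section
-/

set_option autoImplicit false
set_option linter.style.haveILetI false
set_option linter.unusedSectionVars false
set_option backward.isDefEq.respectTransparency false
set_option backward.isDefEq.respectTransparency.types false

universe u v

open CategoryTheory CategoryTheory.Limits AlgebraicGeometry TopologicalSpace Opposite

noncomputable section

namespace Groth.Agent.VADesc9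

open Groth.Agent
open Groth.Agent.VA11
open Groth.Agent.AmpleFib
open Groth.Agent.M1 (ores mres)

variable {X : Scheme.{u}} {L L' : X.Modules} {W : X.Opens}

theorem gl_smul_le (a : Γ(X, W)) (s : Γ(L, W)) : gl (a • s) ≤ gl s := fun x hx => by
  have h1 := cf_smul_right (a • s) s a
  rw [cf_self] at h1
  have h2 : IsUnit (X.presheaf.germ _ x hx (cf (a • s) s)) :=
    isUnit_of_mul_isUnit_right (x := X.presheaf.germ _ x hx (ores (gl_le (a • s)) a))
      (by rw [← map_mul, ← h1, map_one]; exact isUnit_one)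
  exact ((gl_inf_gl (a • s) s).ge ((Scheme.mem_basicOpen X _ x hx).2 h2)).2

theorem cf_right_zero (s : Γ(L, W)) : cf s (0 : Γ(L, W)) = 0 := by
  have h := cf_add s (0 : Γ(L, W)) 0
  rwa [add_zero, left_eq_add] at h

variable {R : Type u} [CommRing R] {κ μ : Type v} {ρ : R →+* Γ(X, W)}

/-- The new family sees a section. -/
def Sees (ρ : R →+* Γ(X, W)) (σ : μ → Γ(L, W)) (t : Γ(L, W)) : Prop :=
  gl t ≤ ⨆ l, gl (σ l) ∧ ∀ i, cf (σ i) t ∈ ratSub ρ σ i

variable {σ : μ → Γ(L, W)}

theorem sees_self (l : μ) : Sees ρ σ (σ l) :=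
  ⟨le_iSup (fun l => gl (σ l)) l, fun _ => cf_mem_ratSub l⟩

theorem sees_zero : Sees ρ σ (0 : Γ(L, W)) :=
  ⟨fun _ hx => absurd hx not_mem_gl_zero, fun i => by rw [cf_right_zero]; exact zero_mem _⟩

theorem sees_add {a b : Γ(L, W)} (ha : Sees ρ σ a) (hb : Sees ρ σ b) : Sees ρ σ (a + b) :=
  ⟨(gl_add_le a b).trans (sup_le ha.1 hb.1), fun i => by rw [cf_add]; exact add_mem (ha.2 i) (hb.2 i)⟩

theorem sees_smul (c : R) {a : Γ(L, W)} (ha : Sees ρ σ a) : Sees ρ σ (ρ c • a) :=
  ⟨(gl_smul_le _ a).trans ha.1, fun i => by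
    rw [cf_smul_right]; exact mul_mem (base_mem_ratSub c) (ha.2 i)⟩

/-- A family seeing a separating family separates. -/
theorem vaat_of_sees {τ : κ → Γ(L, W)} {x : X} (h : VAat ρ τ x) (hτ : ∀ k, Sees ρ σ (τ k)) :
    VAat ρ σ x := by
  obtain ⟨e, b, hb, hxb, hA, hfr⟩ := h
  obtain ⟨i, hi⟩ := Opens.mem_iSup.1 ((hτ e).1 (X.basicOpen_le b hxb))
  refine vaat_of_cf ⟨e, b, hb, hxb, hA, hfr⟩ i hi (σ i) rfl fun k => ?_
  rw [M1.ores_id]
  exact (hτ k).2 i

end Groth.Agent.VADesc9
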