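import Groth.Agent.Lib.AmpleFib.VAPn
import Groth.Agent.Lib.AmpleFib.DescVA
import Groth.Agent.Lib.H12.DescImm
import Groth.Agent.Lib.ParaFDesc27.GlobalBC
import Groth.Agent.Lib.VADesc9.Sees
import Groth.Agent.Lib.VeryAmple11.BC

/-!
# Very ampleness descends along faithfully flat affine base change
-/

set_option autoImplicit false
set_option linter.style.haveILetI false
set_option linter.unusedSectionVars false
set_option backward.isDefEq.respectTransparency false
set_option maxHeartbeats 1000000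

universe u

open CategoryTheory CategoryTheory.Limits AlgebraicGeometry TopologicalSpace Opposite

noncomputable section

namespace Groth.Agent.VADesc9

open Groth.Agent
open Groth.Agent.VA11
open Groth.Agent.AmpleFib
open Groth.Agent.M1 (ores mres)

variable {X Y X' : Scheme.{u}} {R' : Type u} [CommRing R']

/-- Finitely many separating sections of a very ample module over an affine base. -/
theorem exists_finite_vaat [IsAffine Y] (f : X ⟶ Y) [LocallyOfFiniteType f] [QuasiCompact f] {L : X.Modules}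
    (h : RelProj.IsRelVeryAmple f L) :
    ∃ (κ : Type u) (_ : Fintype κ) (τ : κ → Γ(L, f ⁻¹ᵁ ⊤)), ∀ x, VAat (f.app ⊤).hom τ x := by
  classical
  haveI : CompactSpace X := QuasiCompact.compactSpace_of_compactSpace f
  obtain ⟨E, φ, -, hva⟩ := exists_va_of_isRelVeryAmple h
  choose T O hxO hO using fun x => exists_finset_vaat_self (isAffineOpen_top Y) (hva ⊤ (isAffineOpen_top Y) x trivial)
  obtain ⟨s, hs⟩ := isCompact_univ.elim_finite_subcover (fun x => (O x : Set X)) (fun x => (O x).isOpen)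
    fun x _ => Set.mem_iUnion.2 ⟨x, hxO x⟩
  refine ⟨(s.biUnion T : Finset Γ(E, ⊤)), inferInstance, fun m => secs φ ⊤ m.1, fun y => ?_⟩
  obtain ⟨x, hx, hy⟩ := Set.mem_iUnion₂.1 (hs (Set.mem_univ y))
  refine (hO x y hy).mono fun m hm =>
    ⟨⟨m.1, Finset.mem_biUnion.2 ⟨x, hx, m.2⟩⟩, le_rfl, hm, fun r => ?_, fun k => ?_⟩
  · rw [M1.ores_id]
    exact base_mem_ratSub (σ := fun m : (s.biUnion T : Finset Γ(E, ⊤)) => secs φ ⊤ m.1) r
  · rw [M1.ores_id]
    exact cf_mem_ratSub (σ := fun m : (s.biUnion T : Finset Γ(E, ⊤)) => secs φ ⊤ m.1)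
      ⟨k.1, Finset.mem_biUnion.2 ⟨x, hx, k.2⟩⟩

/-- Sections of `L` whose pullbacks separate exist when the pullback of `L` is very ample. -/
theorem exists_sections [IsAffine Y] (f : X ⟶ Y) [QuasiCompact f] [QuasiSeparated f]
    {h : Spec (CommRingCat.of R') ⟶ Y} [Flat h] {g : X' ⟶ X} {q' : X' ⟶ Spec (CommRingCat.of R')}
    [LocallyOfFiniteType q'] [QuasiCompact q']
    (sq : IsPullback g q' f h) {L : X.Modules} (hL : PicF.IsInvertible L)
    (hva : RelProj.IsRelVeryAmple q' ((Scheme.Modules.pullback g).obj L)) :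
    ∃ (μ : Type u) (_ : Fintype μ) (w : μ → Γ(L, ⊤)),
      ∀ x', VAat (W := g ⁻¹ᵁ ⊤) (Coh.toGlobal q') (fun l => M2.pullSec g L (w l)) x' := by
  classical
  obtain ⟨κ, _, τ, hτ⟩ := exists_finite_vaat q' hva
  haveI : Coh.IsQCoh L := Groth.Agent.Twist.isQCoh_of_isInvertible hL
  let L' := (Scheme.Modules.pullback g).obj L
  let P : Γ(L', ⊤) → Prop := fun t => ∃ T : Finset Γ(L, ⊤), ∀ (μ : Type u) (w : μ → Γ(L, ⊤)),
    ↑T ⊆ Set.range w → Sees (W := g ⁻¹ᵁ ⊤) (Coh.toGlobal q') (fun l => M2.pullSec g L (w l)) t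
  have hall : ∀ t, P t := fun t => ParaFDesc27.global_induction (g := h) sq L
    (Or.inr ⟨inferInstance, inferInstance, inferInstance⟩) (P := P)
    ⟨∅, fun μ w _ => sees_zero⟩
    (fun s t ⟨T, hT⟩ ⟨T', hT'⟩ => ⟨T ∪ T', fun μ w hw => by
      rw [Finset.coe_union, Set.union_subset_iff] at hw
      exact sees_add (hT μ w hw.1) (hT' μ w hw.2)⟩)
    (fun c m => ⟨{m}, fun μ w hw => by
      obtain ⟨l, rfl⟩ := hw (Finset.mem_singleton_self m)
      have hc : q'.appTop c = Coh.toGlobal q' ((Scheme.ΓSpecIso (CommRingCat.of R')).hom c) := by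
        show q'.appTop c = q'.appTop ((Scheme.ΓSpecIso (CommRingCat.of R')).inv _)
        rw [Iso.hom_inv_id_apply]
      rw [hc]
      exact sees_smul (ρ := Coh.toGlobal q') (σ := fun l => M2.pullSec g L (w l)) _ (sees_self l)⟩) t
  choose T hT using fun k => hall (τ k)
  let U : Finset Γ(L, ⊤) := Finset.univ.biUnion T
  refine ⟨U, inferInstance, fun m => m.1, fun x' => ?_⟩
  have hρ : VAat (W := g ⁻¹ᵁ ⊤) (Coh.toGlobal q') τ x' := (hτ x').mono fun e he =>
    ⟨e, le_rfl, he, fun r => by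
      rw [M1.ores_id]
      have hr : q'.app ⊤ r = Coh.toGlobal q' ((Scheme.ΓSpecIso (CommRingCat.of R')).hom r) := by
        show q'.app ⊤ r = q'.appTop ((Scheme.ΓSpecIso (CommRingCat.of R')).inv _)
        rw [Iso.hom_inv_id_apply]
        rfl
      show ores _ (q'.app ⊤ r) ∈ _
      rw [hr]
      exact base_mem_ratSub (ρ := Coh.toGlobal q') (σ := τ) _, fun k => by
      rw [M1.ores_id]
      exact cf_mem_ratSub (ρ := Coh.toGlobal q') (σ := τ) k⟩
  exact vaat_of_sees hρ fun k => hT k U (fun m => m.1) fun a ha =>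
    ⟨⟨a, Finset.mem_biUnion.2 ⟨k, Finset.mem_univ k, ha⟩⟩, rfl⟩

/-- Very ampleness in projective-space form descends along a faithfully flat affine base change. -/
theorem isRelVeryAmplePn_of_baseChange [IsAffine Y] (f : X ⟶ Y) [LocallyOfFiniteType f] [QuasiCompact f]
    {h : Spec (CommRingCat.of R') ⟶ Y} [Flat h] [Surjective h] {g : X' ⟶ X}
    {q' : X' ⟶ Spec (CommRingCat.of R')} (sq : IsPullback g q' f h) {L : X.Modules} (hL : PicF.IsInvertible L)
    (hva : RelProj.IsRelVeryAmple q' ((Scheme.Modules.pullback g).obj L)) :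
    RelAmple.IsRelVeryAmplePn f L := by
  classical
  haveI : LocallyOfFiniteType q' := MorphismProperty.of_isPullback sq inferInstance
  haveI : QuasiCompact q' := MorphismProperty.of_isPullback sq inferInstance
  haveI : Surjective g := MorphismProperty.of_isPullback (P := @Surjective) sq.flip inferInstance
  haveI : IsSeparated q' := by
    obtain ⟨n₀, i, hi, hiq, -⟩ := isRelVeryAmplePn_of_isRelVeryAmple q' (Groth.Agent.Twist.isInvertible_pullback g hL) hva
    rw [← hiq]; infer_instance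
  haveI : QuasiCompact h := inferInstance
  haveI := FpqcDesc.descendsAlong_isSeparated.{u}
  haveI : IsSeparated f := MorphismProperty.of_isPullback_of_descendsAlong (P := @IsSeparated)
    (Q := @Surjective ⊓ @Flat ⊓ @QuasiCompact) sq.flip ⟨⟨inferInstance, inferInstance⟩, inferInstance⟩ inferInstance
  obtain ⟨μ, _, w, hw⟩ := exists_sections f sq hL hva
  let q := f ≫ Y.isoSpec.hom
  let φS : Spec (CommRingCat.of R') ⟶ Spec (CommRingCat.of Γ(Y, ⊤)) := h ≫ Y.isoSpec.hom
  have sqq : IsPullback g q' q φS :=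
    sq.of_iso (Iso.refl _) (Iso.refl _) (Iso.refl _) Y.isoSpec (by simp) (by simp) (by simp [q]) (by simp [φS])
  let σ := fun l => M2.pullSec g L (w l)
  have hgw : ∀ l, gl (σ l) = g ⁻¹ᵁ gl (W := (⊤ : X.Opens)) (w l) := fun l => gl_pullSec g hL (w l)
  obtain ⟨n, j, Dc, hj, ⟨τ⟩, hDc, hch⟩ := AmpleImm18.exists_map_of_sections q hL
    (fun l => gl (W := (⊤ : X.Opens)) (w l))
    (eq_top_iff.2 fun x _ => by
      obtain ⟨x', rfl⟩ := g.surjective x
      obtain ⟨l, b, -, hb, -⟩ := hw x'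
      exact Opens.mem_iSup.2 ⟨l, (hgw l).le (Scheme.basicOpen_le _ b hb)⟩)
    w (fun l x => (mem_gl_iff hL (Opens.mem_top x)).symm)
    (fun l => Finset.univ.image fun i => cf (W := (⊤ : X.Opens)) (w l) (w i))
    (fun l a ha => by
      obtain ⟨i, -, rfl⟩ := Finset.mem_image.1 ha
      exact ⟨w i, (cf_smul (W := (⊤ : X.Opens)) (w l) (w i)).symm⟩)
  choose hjpre hjS hjc using hch
  let π := CohB1.ProjSpace.toSpec n Γ(Y, ⊤)
  haveI : IsAffineHom φS := inferInstance
  haveI : Flat φS := inferInstance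
  haveI : Surjective φS := inferInstance
  let p := pullback.fst π φS
  let p₂ := pullback.snd π φS
  let rT := pullback.lift (f := π) (g := φS) (g ≫ j) q' (by rw [Category.assoc, hj]; exact sqq.w)
  have hp : rT ≫ p = g ≫ j := pullback.lift_fst _ _ _
  have hq : rT ≫ p₂ = q' := pullback.lift_snd _ _ _
  haveI : IsAffineHom p := MorphismProperty.pullback_fst (P := @IsAffineHom) _ _ inferInstance
  have hpre : ∀ l, rT ⁻¹ᵁ (p ⁻¹ᵁ Dc l) = gl (σ l) := fun l => by
    rw [← Scheme.Hom.comp_preimage, hp, Scheme.Hom.comp_preimage, hjpre, hgw]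
  haveI : IsImmersion rT := by
    refine isImmersion_of_vaat σ hw rT (fun l => p ⁻¹ᵁ Dc l) (fun l => (hDc l).preimage p) hpre
      (fun l c => ⟨p₂.appLE ⊤ (p ⁻¹ᵁ Dc l) le_top ((Scheme.ΓSpecIso (CommRingCat.of R')).inv c), ?_⟩)
      (fun l i => ?_)
    · have hc : ∀ {h' : X' ⟶ Spec (CommRingCat.of R')} (_ : h' = q') (h : gl (σ l) ≤ h' ⁻¹ᵁ ⊤),
          h'.appLE ⊤ (gl (σ l)) h ((Scheme.ΓSpecIso (CommRingCat.of R')).inv c) =
            ores (gl_le (σ l)) (Coh.toGlobal q' c) := by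
        rintro h' rfl h; rfl
      show rT.appLE _ _ _ (p₂.appLE ⊤ _ _ _) = _
      rw [← CommRingCat.comp_apply, Scheme.Hom.appLE_comp_appLE]
      exact hc hq _
    · obtain ⟨d, hd⟩ := hjS l (cf (W := (⊤ : X.Opens)) (w l) (w i))
        (Finset.mem_image.2 ⟨i, Finset.mem_univ _, rfl⟩)
      refine ⟨p.appLE (Dc l) (p ⁻¹ᵁ Dc l) le_rfl d, ?_⟩
      have hc : ∀ {U : (CohB1.ProjSpace n Γ(Y, ⊤)).Opens} {h' h'' : X' ⟶ _} (_ : h' = h'') (e e') (d),
          h'.appLE U (gl (σ l)) e d = h''.appLE U (gl (σ l)) e' d := by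
        rintro U h' _ rfl e e' d; rfl
      show rT.appLE _ _ _ (p.appLE _ _ _ d) = cf (σ l) (σ i)
      rw [← CommRingCat.comp_apply, Scheme.Hom.appLE_comp_appLE]
      refine (hc hp _ ((hgw l).le.trans (by rw [Scheme.Hom.comp_preimage, hjpre])) d).trans ?_
      rw [← Scheme.Hom.appLE_comp_appLE g j (Dc l) _ (gl (σ l)) (hjpre l).ge (hgw l).le]
      show g.appLE _ _ _ (j.appLE _ _ _ d) = _
      refine (congrArg _ hd).trans ?_
      exact (cf_pullSec g hL (W := (⊤ : X.Opens)) (w l) (w i)).symm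
  haveI : QuasiCompact (rT ≫ p₂) := hq ▸ inferInstance
  haveI : QuasiCompact rT := QuasiCompact.of_comp rT p₂
  have sq' : IsPullback g rT j p := by
    refine IsPullback.of_bot ?_ hp.symm (IsPullback.of_hasPullback π φS)
    rw [hj, show rT ≫ pullback.snd π φS = q' from hq]
    exact sqq
  haveI := H12.descendsAlong_isImmersion_qc.{u}
  have hjimm : IsImmersion j := by
    refine (MorphismProperty.of_isPullback_of_descendsAlong (P := @IsImmersion ⊓ @QuasiCompact)
      (Q := @Surjective ⊓ @Flat ⊓ @QuasiCompact) sq'.flip ?_ ⟨inferInstance, inferInstance⟩).1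
    exact ⟨⟨MorphismProperty.pullback_fst (P := @Surjective) _ _ inferInstance,
      MorphismProperty.pullback_fst (P := @Flat) _ _ inferInstance⟩,
      MorphismProperty.pullback_fst (P := @QuasiCompact) _ _ inferInstance⟩
  obtain ⟨σ'⟩ := AmpleImm18.nonempty_pullback_map_twist n Γ(Y, ⊤)
  let o := ProjSpace.overMap n Y.isoSpec.inv
  haveI : IsIso o := (ProjSpace.isPullback_overMap n Y.isoSpec.inv).isIso_fst_of_isIso
  haveI := hjimm
  refine ⟨n, j ≫ (ProjSpace.overSpecIso n Γ(Y, ⊤)).hom ≫ o, inferInstance, ?_, ⟨?_⟩⟩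
  · rw [Category.assoc, Category.assoc]
    change j ≫ _ ≫ o ≫ CohB1.ProjSpaceOver.toBase n Y = f
    rw [(ProjSpace.isPullback_overMap n Y.isoSpec.inv).w]
    refine (congrArg (j ≫ ·) (ProjSpace.overSpecIso_hom_toBase_assoc n _ _)).trans ?_
    refine ((Category.assoc _ _ _).symm.trans (congrArg (· ≫ Y.isoSpec.inv) hj)).trans ?_
    simp [q]
  · let fY := pullback.fst (CohB1.ProjSpace.toSpec n (ULift.{u} ℤ)) (specULiftZIsTerminal.from Y)
    have e : j ≫ ProjSpace.map n (ProjSpace.fromZ Γ(Y, ⊤)) =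
        (j ≫ (ProjSpace.overSpecIso n Γ(Y, ⊤)).hom ≫ o) ≫ fY := by
      rw [← ProjSpace.overSpecIso_hom_fst]
      simp [o, fY, ProjSpace.overMap]
    exact τ.symm ≪≫ (Scheme.Modules.pullback j).mapIso σ'.symm ≪≫
      (Scheme.Modules.pullbackComp j (ProjSpace.map n (ProjSpace.fromZ Γ(Y, ⊤)))).app _ ≪≫
      eqToIso (congrArg (fun g => (Scheme.Modules.pullback g).obj _) e) ≪≫
      ((Scheme.Modules.pullbackComp _ fY).app _).symm

end Groth.Agent.VADesc9
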